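import Cfsg.Agent.Lib.FpfPQ.Weights
import Cfsg.Agent.Lib.DerivedLen.Linear

/-!
Orbits of a 2-group on the weights of a normal commutative subgroup, over a field of characteristic two.
-/

set_option autoImplicit false
set_option linter.style.haveILetI false

namespace CfsgLib.TwoPQModule

variable {S : Type*} [Group S] {K : Type*} [Field K] {W : Type*} [AddCommGroup W] [Module K W]

/-- Functions on a normal subgroup, with the conjugation action of the group. -/
def Wt (P : Subgroup S) (K : Type*) := P → K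

instance instMulActionWt (P : Subgroup S) [P.Normal] : MulAction S (Wt P K) where
  smul g f := fun z => f (MulAut.conjNormal g⁻¹ z)
  one_smul f := by
    funext z
    show f (MulAut.conjNormal (1 : S)⁻¹ z) = f z
    simp
  mul_smul g h f := by
    funext z
    show f (MulAut.conjNormal (g * h)⁻¹ z) = f (MulAut.conjNormal h⁻¹ (MulAut.conjNormal g⁻¹ z))
    rw [mul_inv_rev, map_mul]; rfl

variable {P : Subgroup S} [hPn : P.Normal] (ρ : Representation K S W)

/-- `v` has weight `f`. -/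
def HasWt (f : Wt P K) (v : W) : Prop := ∀ z : P, ρ (z : S) v = f z • v

theorem rep_mul (g h : S) (v : W) : ρ (g * h) v = ρ g (ρ h v) := by
  rw [map_mul, Module.End.mul_apply]

theorem rep_eq_zero {g : S} {v : W} (h : ρ g v = 0) : v = 0 := by
  have := congrArg (ρ g⁻¹) h
  rwa [← rep_mul, inv_mul_cancel, map_one, Module.End.one_apply, map_zero] at this

theorem HasWt.translate {f : Wt P K} {v : W} (h : HasWt ρ f v) (g : S) : HasWt ρ (g • f) (ρ g v) := by
  intro z
  show ρ z (ρ g v) = f (MulAut.conjNormal g⁻¹ z) • ρ g v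
  rw [← map_smul, ← h, ← rep_mul, ← rep_mul, MulAut.conjNormal_apply, inv_inv]
  congr 2
  group

theorem wt_indep (s : Finset (Wt P K)) (e : Wt P K → W) (he : ∀ o ∈ s, HasWt ρ o (e o))
    (h0 : ∑ o ∈ s, e o = 0) : ∀ o ∈ s, e o = 0 :=
  CfsgLib.HallHigman.weight_indep (K := K) (fun z : P => ρ (z : S)) (fun (o : Wt P K) (z : P) => o z)
    (fun i j hij => by
      by_contra hc
      push Not at hc
      exact hij (funext hc)) s e (fun o ho z => he o ho z) h0

theorem coeff_eq {s A B C : Finset (Wt P K)} {u u₁ u₂ : Wt P K → W} (hs : A ⊆ s ∧ B ⊆ s ∧ C ⊆ s)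
    (hu : ∀ o, HasWt ρ o (u o)) (hu₁ : ∀ o, HasWt ρ o (u₁ o)) (hu₂ : ∀ o, HasWt ρ o (u₂ o))
    (hA : ∀ o, o ∉ A → u o = 0) (hB : ∀ o, o ∉ B → u₁ o = 0) (hC : ∀ o, o ∉ C → u₂ o = 0) {a b : K}
    (h : ∑ o ∈ A, u o = a • (∑ o ∈ B, u₁ o) + b • ∑ o ∈ C, u₂ o) :
    ∀ o, u o = a • u₁ o + b • u₂ o := by
  intro o
  by_cases ho : o ∈ s
  · refine sub_eq_zero.1 (wt_indep ρ s (fun o => u o - (a • u₁ o + b • u₂ o)) (fun o _ z => ?_) ?_ o ho)
    · simp only [map_sub, map_add, map_smul, hu o z, hu₁ o z, hu₂ o z]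
      module
    · rw [Finset.sum_sub_distrib, Finset.sum_add_distrib, ← Finset.smul_sum, ← Finset.smul_sum,
        ← Finset.sum_subset hs.1 (fun o _ => hA o), ← Finset.sum_subset hs.2.1 (fun o _ => hB o),
        ← Finset.sum_subset hs.2.2 (fun o _ => hC o), h, sub_self]
  · rw [hA o fun h => ho (hs.1 h), hB o fun h => ho (hs.2.1 h), hC o fun h => ho (hs.2.2 h)]
    simp

variable [Finite S] {T : Subgroup S}

open Classical in
/-- The orbit of a weight. -/
noncomputable def orb (T : Subgroup S) (f : Wt P K) : Finset (Wt P K) :=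
  letI := Fintype.ofFinite T
  Finset.univ.image fun t : T => (t : S) • f

theorem mem_orb {f o : Wt P K} : o ∈ orb T f ↔ ∃ t ∈ T, t • f = o := by
  classical
  simp only [orb, Finset.mem_image, Finset.mem_univ, true_and]
  exact ⟨fun ⟨t, ht⟩ => ⟨t, t.2, ht⟩, fun ⟨t, ht, h⟩ => ⟨⟨t, ht⟩, h⟩⟩

theorem card_orb_dvd (f : Wt P K) : (orb T f).card ∣ Nat.card T := by
  classical
  have h : (MulAction.orbit T f) = (orb T f : Set (Wt P K)) := by
    ext o
    rw [Finset.mem_coe, mem_orb]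
    exact ⟨fun ⟨t, ht⟩ => ⟨t, t.2, ht⟩, fun ⟨t, ht, h⟩ => ⟨⟨t, ht⟩, h⟩⟩
  have h2 := MulAction.index_stabilizer T f
  rw [h, Set.ncard_coe_finset] at h2
  rw [← h2]
  exact Subgroup.index_dvd_card _

/-- A fixed vector of a 2-group built on the orbit of a weight. -/
theorem exists_orbit_vector [CharP K 2] (hT : IsPGroup 2 T) {f : Wt P K} {v : W} (hv0 : v ≠ 0) (hv : HasWt ρ f v) :
    ∃ u : Wt P K → W, (∀ o, HasWt ρ o (u o)) ∧ (∀ o, u o = 0 ↔ o ∉ orb T f) ∧
      ∀ t ∈ T, ρ t (∑ o ∈ orb T f, u o) = ∑ o ∈ orb T f, u o := by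
  classical
  let V : Submodule K W :=
    { carrier := {w | HasWt ρ f w}
      zero_mem' := fun z => by simp
      add_mem' := fun {x y} hx hy z => by rw [map_add, hx z, hy z, smul_add]
      smul_mem' := fun c x hx z => by rw [map_smul, hx z, smul_comm] }
  let H : Subgroup T := MulAction.stabilizer T f
  have hinv : ∀ h : H, ∀ w ∈ V, ρ ((h : T) : S) w ∈ V := fun h w hw => by
    have h1 := HasWt.translate ρ hw ((h : T) : S)
    rwa [show ((h : T) : S) • f = f from h.2] at h1
  let σ : H →* Module.End K V :=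
    { toFun := fun h => (ρ ((h : T) : S)).restrict (hinv h)
      map_one' := LinearMap.ext fun w => Subtype.ext (by
        show ρ (((1 : H) : T) : S) w = _
        rw [OneMemClass.coe_one, OneMemClass.coe_one, map_one]; rfl)
      map_mul' := fun g h => LinearMap.ext fun w => Subtype.ext (by
        show ρ (((g * h : H) : T) : S) w = ρ ((g : T) : S) (ρ ((h : T) : S) w)
        rw [Subgroup.coe_mul, Subgroup.coe_mul, rep_mul]) }
  have hne : (⊥ : Submodule K V) ≠ ⊤ := by
    intro h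
    have h1 : (⟨v, hv⟩ : V) ∈ (⊥ : Submodule K V) := h ▸ Submodule.mem_top
    exact hv0 (congrArg Subtype.val ((Submodule.mem_bot K).1 h1))
  obtain ⟨⟨v₀, hv₀⟩, hne0, hfix⟩ := CfsgLib.DerivedLen.exists_fixed_mod (p := 2) (hT.to_subgroup H)
    (CharP.cast_eq_zero K 2) σ ⊥ (fun g w hw => by simp [(Submodule.mem_bot K).1 hw]) hne
  have hv₀0 : v₀ ≠ 0 := fun h => hne0 ((Submodule.mem_bot K).2 (Subtype.ext h))
  have hstab : ∀ t : T, (t : S) • f = f → ρ (t : S) v₀ = v₀ := fun t ht => by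
    have := (Submodule.mem_bot K).1 (hfix ⟨t, ht⟩)
    exact congrArg Subtype.val (sub_eq_zero.1 this)
  let u : Wt P K → W := fun o => if h : ∃ t : T, (t : S) • f = o then ρ (h.choose : S) v₀ else 0
  have hu : ∀ t : T, u ((t : S) • f) = ρ (t : S) v₀ := by
    intro t
    have h : ∃ r : T, (r : S) • f = (t : S) • f := ⟨t, rfl⟩
    simp only [u, dif_pos h]
    have h1 := hstab (t⁻¹ * h.choose) (by
      rw [Subgroup.coe_mul, Subgroup.coe_inv, mul_smul, h.choose_spec, inv_smul_smul])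
    rw [Subgroup.coe_mul, Subgroup.coe_inv, rep_mul] at h1
    have h2 := congrArg (ρ (t : S)) h1
    rwa [← rep_mul, mul_inv_cancel, map_one, Module.End.one_apply] at h2
  refine ⟨u, fun o => ?_, fun o => ?_, fun s hs => ?_⟩
  · by_cases h : ∃ t : T, (t : S) • f = o
    · obtain ⟨t, rfl⟩ := h
      rw [hu]
      exact HasWt.translate ρ hv₀ _
    · intro z
      rw [show u o = 0 from dif_neg h, map_zero, smul_zero]
  · constructor
    · intro h0 hmem
      obtain ⟨t, ht, rfl⟩ := mem_orb.1 hmem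
      rw [hu ⟨t, ht⟩] at h0
      exact hv₀0 (rep_eq_zero ρ h0)
    · intro hmem
      exact dif_neg fun ⟨t, ht⟩ => hmem (mem_orb.2 ⟨t, t.2, ht⟩)
  · rw [map_sum]
    refine Finset.sum_bij (fun o _ => s • o) (fun o ho => ?_) (fun a _ b _ h => smul_left_cancel s h)
      (fun o ho => ?_) (fun o ho => ?_)
    · obtain ⟨t, ht, rfl⟩ := mem_orb.1 ho
      exact mem_orb.2 ⟨s * t, T.mul_mem hs ht, mul_smul _ _ _⟩
    · obtain ⟨t, ht, rfl⟩ := mem_orb.1 ho
      exact ⟨(s⁻¹ * t) • f, mem_orb.2 ⟨_, T.mul_mem (T.inv_mem hs) ht, rfl⟩, by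
        rw [← mul_smul, mul_inv_cancel_left]⟩
    · obtain ⟨t, ht, rfl⟩ := mem_orb.1 ho
      rw [← mul_smul, hu ⟨t, ht⟩, hu ⟨s * t, T.mul_mem hs ht⟩, ← rep_mul]

/-- An element of odd prime order without fixed weights leaves no orbit of a 2-group invariant. -/
theorem not_image_orb_subset (hT : IsPGroup 2 T) {x : S} {q : ℕ} (hq : q.Prime) (hq2 : q ≠ 2) (hx : x ^ q = 1)
    {f : Wt P K} (hfree : ∀ o ∈ orb T f, x • o ≠ o) : ∃ o ∈ orb T f, x • o ∉ orb T f := by
  classical
  by_contra hc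
  push Not at hc
  haveI := Fact.mk hq
  let π : Equiv.Perm (orb T f) := Equiv.ofBijective (fun o => ⟨x • (o : Wt P K), hc o o.2⟩)
    (Finite.injective_iff_bijective.1 fun a b h => Subtype.ext (smul_left_cancel x (congrArg Subtype.val h)))
  have hπ : ∀ (k : ℕ) (o : orb T f), (((π ^ k) o : orb T f) : Wt P K) = x ^ k • (o : Wt P K) := by
    intro k
    induction k with
    | zero => simp
    | succ k ih =>
      intro o
      rw [pow_succ', Equiv.Perm.mul_apply, pow_succ', mul_smul]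
      exact congrArg (x • ·) (ih o)
  obtain ⟨o, ho⟩ := Equiv.Perm.exists_fixed_point_of_prime (p := q) (n := 1) (σ := π)
    (by
      rw [Fintype.card_coe]
      intro h
      obtain ⟨k, hk⟩ := IsPGroup.iff_card.1 hT
      have := h.trans (card_orb_dvd f)
      rw [hk] at this
      exact hq2 ((Nat.prime_dvd_prime_iff_eq hq Nat.prime_two).1 (hq.dvd_of_dvd_pow this)))
    (by
      ext1 o
      rw [pow_one, Equiv.Perm.one_apply]
      exact Subtype.ext (by rw [hπ, hx, one_smul]))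
  exact hfree o o.2 (congrArg Subtype.val ho)

/-- Two fixed vectors of the 2-group, whose span the element of odd prime order does not preserve. -/
theorem exists_pair [CharP K 2] [IsAlgClosed K] [FiniteDimensional K W] [Nontrivial W] (hT : IsPGroup 2 T)
    (hPc : ∀ a ∈ P, ∀ b ∈ P, a * b = b * a) {x : S} {q : ℕ} (hq : q.Prime) (hq2 : q ≠ 2) (hx : x ^ q = 1)
    (hfree : ∀ (o : Wt P K) (v : W), v ≠ 0 → HasWt ρ o v → x • o ≠ o) :
    ∃ w : Fin 2 → W, LinearIndependent K w ∧ (∀ i, ∀ t ∈ T, ρ t (w i) = w i) ∧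
      ∃ i, ρ x (w i) ∉ Submodule.span K (Set.range w) := by
  classical
  obtain ⟨v, -, hv0, hall⟩ := CfsgLib.FpfPQ.exists_common_eigen (K := K) (ρ '' (P : Set S))
    (by
      rintro _ ⟨a, ha, rfl⟩ _ ⟨b, hb, rfl⟩
      show ρ a * ρ b = ρ b * ρ a
      rw [← map_mul, ← map_mul, hPc a ha b hb])
    (⊤ : Submodule K W) top_ne_bot (fun _ _ _ _ => trivial)
  choose lam hlam using fun z : P => hall (ρ (z : S)) ⟨z, z.2, rfl⟩
  let f : Wt P K := lam
  have hvf : HasWt ρ f v := hlam
  obtain ⟨u₁, hu₁, hs₁, hfix₁⟩ := exists_orbit_vector ρ hT hv0 hvf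
  have hfree' : ∀ {g : Wt P K} {u : Wt P K → W}, (∀ o, HasWt ρ o (u o)) → (∀ o, u o = 0 ↔ o ∉ orb T g) →
      ∀ o ∈ orb T g, x • o ≠ o := fun hu hs o ho =>
    hfree o _ (fun h => (hs o).1 h ho) (hu o)
  obtain ⟨o₁, ho₁, hxo₁⟩ := not_image_orb_subset hT hq hq2 hx (hfree' hu₁ hs₁)
  obtain ⟨u₂, hu₂, hs₂, hfix₂⟩ := exists_orbit_vector ρ hT
    (v := ρ x (u₁ o₁)) (f := x • o₁) (fun h => (hs₁ o₁).1 (rep_eq_zero ρ h) ho₁)
    (HasWt.translate ρ (hu₁ o₁) x)
  set A := orb T f with hA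
  set B := orb T (x • o₁) with hB
  have hdis : ∀ o, o ∈ A → o ∉ B := by
    intro o ho ho'
    obtain ⟨t, ht, rfl⟩ := mem_orb.1 ho
    obtain ⟨r, hr, hrt⟩ := mem_orb.1 ho'
    exact hxo₁ (mem_orb.2 ⟨r⁻¹ * t, T.mul_mem (T.inv_mem hr) ht, by rw [mul_smul, ← hrt, inv_smul_smul]⟩)
  have hfA : f ∈ A := mem_orb.2 ⟨1, T.one_mem, one_smul _ _⟩
  have hgB : x • o₁ ∈ B := mem_orb.2 ⟨1, T.one_mem, one_smul _ _⟩
  let w : Fin 2 → W := ![∑ o ∈ A, u₁ o, ∑ o ∈ B, u₂ o]
  refine ⟨w, ?_, fun i => ?_, ?_⟩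
  · rw [Fintype.linearIndependent_iff]
    intro c hc
    rw [Fin.sum_univ_two] at hc
    have := coeff_eq ρ (s := A ∪ B) (A := ∅) (u := fun _ => 0) (a := c 0) (b := c 1)
      ⟨Finset.empty_subset _, Finset.subset_union_left, Finset.subset_union_right⟩
      (fun o z => by simp) hu₁ hu₂ (fun _ _ => rfl) (fun o => (hs₁ o).2) (fun o => (hs₂ o).2)
      (by rw [Finset.sum_empty]; exact hc.symm)
    intro i
    fin_cases i
    · have h1 := this f
      rw [(hs₂ f).2 (hdis f hfA), smul_zero, add_zero] at h1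
      exact (smul_eq_zero.1 h1.symm).resolve_right fun h => (hs₁ f).1 h hfA
    · have h1 := this (x • o₁)
      rw [(hs₁ _).2 (fun h => hdis _ h hgB), smul_zero, zero_add] at h1
      exact (smul_eq_zero.1 h1.symm).resolve_right fun h => (hs₂ _).1 h hgB
  · fin_cases i
    · exact hfix₁
    · exact hfix₂
  by_contra hc
  push Not at hc
  -- the translated vectors
  have key : ∀ (g : Wt P K) (u : Wt P K → W), (∀ o, HasWt ρ o (u o)) → (∀ o, u o = 0 ↔ o ∉ orb T g) →
      ρ x (∑ o ∈ orb T g, u o) ∈ Submodule.span K (Set.range w) →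
      (orb T g).image (x • ·) = A ∨ (orb T g).image (x • ·) ⊆ B ∧ B ⊆ (orb T g).image (x • ·) ∨
        A ⊆ (orb T g).image (x • ·) ∧ B ⊆ (orb T g).image (x • ·) := by
    intro g u hu hs hmem
    rw [Submodule.mem_span_range_iff_exists_fun] at hmem
    obtain ⟨c, hc⟩ := hmem
    rw [Fin.sum_univ_two] at hc
    set C := (orb T g).image (x • ·) with hC
    have hC' : ∀ o, o ∈ C ↔ x⁻¹ • o ∈ orb T g := by
      intro o
      rw [hC, Finset.mem_image]
      exact ⟨fun ⟨a, ha, h⟩ => by rw [← h, inv_smul_smul]; exact ha,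
        fun h => ⟨_, h, smul_inv_smul x o⟩⟩
    have he := coeff_eq ρ (s := C ∪ A ∪ B) (A := C) (B := A) (C := B) (u := fun o => ρ x (u (x⁻¹ • o)))
      (a := c 0) (b := c 1)
      ⟨Finset.subset_union_left.trans Finset.subset_union_left,
        Finset.subset_union_right.trans Finset.subset_union_left, Finset.subset_union_right⟩
      (fun o => by simpa only [smul_inv_smul] using HasWt.translate ρ (hu (x⁻¹ • o)) x) hu₁ hu₂
      (fun o ho => by rw [(hs _).2 fun h => ho ((hC' o).2 h), map_zero])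
      (fun o => (hs₁ o).2) (fun o => (hs₂ o).2)
      (by
        rw [hC, Finset.sum_image fun a _ b _ h => smul_left_cancel x h]
        simp only [inv_smul_smul]
        rw [← map_sum]
        exact hc.symm)
    have hsub : ∀ o ∈ C, (o ∈ A ∧ c 0 ≠ 0) ∨ (o ∈ B ∧ c 1 ≠ 0) := by
      intro o ho
      by_contra hh
      push Not at hh
      refine (hs _).1 (rep_eq_zero ρ (g := x) ?_) ((hC' o).1 ho)
      rw [he o]
      by_cases h1 : o ∈ A
      · rw [hh.1 h1, (hs₂ o).2 (hdis o h1), zero_smul, smul_zero, add_zero]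
      · by_cases h2 : o ∈ B
        · rw [hh.2 h2, (hs₁ o).2 h1, zero_smul, smul_zero, add_zero]
        · rw [(hs₁ o).2 h1, (hs₂ o).2 h2, smul_zero, smul_zero, add_zero]
    have hA1 : c 0 ≠ 0 → A ⊆ C := by
      intro h0 o ho
      by_contra hh
      have h1 := he o
      rw [(hs _).2 (fun h => hh ((hC' o).2 h)), map_zero, (hs₂ o).2 (hdis o ho), smul_zero, add_zero] at h1
      exact (hs₁ o).1 ((smul_eq_zero.1 h1.symm).resolve_left h0) ho
    have hB1 : c 1 ≠ 0 → B ⊆ C := by
      intro h0 o ho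
      by_contra hh
      have h1 := he o
      rw [(hs _).2 (fun h => hh ((hC' o).2 h)), map_zero, (hs₁ o).2 (fun h => hdis o h ho), smul_zero,
        zero_add] at h1
      exact (hs₂ o).1 ((smul_eq_zero.1 h1.symm).resolve_left h0) ho
    by_cases h0 : c 0 = 0
    · refine Or.inr (Or.inl ⟨fun o ho => ((hsub o ho).resolve_left fun h => h.2 h0).1, ?_⟩)
      by_cases h1 : c 1 = 0
      · intro o ho
        exfalso
        have := hsub (x • g) ((hC' _).2 (by rw [inv_smul_smul]; exact mem_orb.2 ⟨1, T.one_mem, one_smul _ _⟩))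
        rcases this with h | h
        · exact h.2 h0
        · exact h.2 h1
      · exact hB1 h1
    · by_cases h1 : c 1 = 0
      · exact Or.inl (le_antisymm (fun o ho => ((hsub o ho).resolve_right fun h => h.2 h1).1) (hA1 h0))
      · exact Or.inr (Or.inr ⟨hA1 h0, hB1 h1⟩)
  have hcard : ∀ g : Wt P K, ((orb T g).image (x • ·)).card = (orb T g).card :=
    fun g => Finset.card_image_of_injective _ fun a b h => smul_left_cancel x h
  have hAne : 0 < A.card := Finset.card_pos.2 ⟨f, hfA⟩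
  have hBne : 0 < B.card := Finset.card_pos.2 ⟨_, hgB⟩
  have hAB : (A ∪ B).card = A.card + B.card :=
    Finset.card_union_of_disjoint (Finset.disjoint_left.2 hdis)
  have hxA : ∀ o ∈ A, x • o ∈ A.image (x • ·) := fun o ho => Finset.mem_image_of_mem _ ho
  rcases key f u₁ hu₁ hs₁ (hc 0) with h | ⟨h, h'⟩ | ⟨h, h'⟩
  · exact hxo₁ (h ▸ hxA o₁ ho₁)
  · rcases key (x • o₁) u₂ hu₂ hs₂ (hc 1) with k | ⟨k, -⟩ | ⟨k, k'⟩
    · -- the two orbits are interchanged, so an odd power fixes both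
      have hAe : A.image (x • ·) = B := le_antisymm h h'
      have h2 : ∀ n : ℕ, ∀ o ∈ A, x ^ (2 * n) • o ∈ A := by
        intro n
        induction n with
        | zero => intro o ho; simpa using ho
        | succ n ih =>
          intro o ho
          have h3 : x • (x • o) ∈ A := k.le (Finset.mem_image_of_mem _ (hAe.le (hxA o ho)))
          rw [show 2 * (n + 1) = 2 * n + 2 from rfl, pow_add, mul_smul, pow_two, mul_smul]
          exact ih _ h3
      obtain ⟨n, hn⟩ := hq.odd_of_ne_two hq2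
      refine hdis (x ^ q • o₁) (by rw [hx, one_smul]; exact ho₁) ?_
      rw [hn, pow_succ', mul_smul]
      exact hAe.le (hxA _ (h2 n o₁ ho₁))
    · obtain ⟨o, ho⟩ : ∃ o, o ∈ A := ⟨f, hfA⟩
      obtain ⟨a, ha, hae⟩ := Finset.mem_image.1 ((Finset.eq_of_subset_of_card_le k (by
        rw [hcard])).ge (h (hxA o ho)))
      rw [smul_left_cancel x hae] at ha
      exact hdis o ho ha
    · have := Finset.card_le_card (Finset.union_subset k k')
      rw [hcard, hAB] at this
      change A.card + B.card ≤ B.card at this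
      omega
  · have := Finset.card_le_card (Finset.union_subset h h')
    rw [hcard, hAB] at this
    change A.card + B.card ≤ A.card at this
    omega

end CfsgLib.TwoPQModule
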